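import Cfsg.Agent.H367.Rec.Defs

/-!
# Numbers for the recognition of `A_n`, `S_n` by spectrum: definitions (helper152, task REC-NUM)
-/

set_option autoImplicit false

namespace Cfsg.Agent.H152.Rec

/-- primes of `(n/2, n]` -/
def om (n : ℕ) : Finset ℕ := (Finset.Ioc (n / 2) n).filter Nat.Prime

/-- `Φ_e(q)` up to the factor `e` -/
def cyc (e q : ℕ) : ℕ := (q ^ e - 1) / ((q - 1) * Nat.gcd e (q - 1))

end Cfsg.Agent.H152.Rec
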