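import Cfsg.Agent.H152.Rec.NumCyc

/-!
# REC-NUM (helper152): `om_table`, `om_large`, `cyc_table` (namespace `Cfsg.Agent.H152.Rec`)
-/
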