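import Cfsg.Agent.H152.Rec.NumOm

/-!
# `sg` of the cyclotomic numbers `cyc e q` (helper152, task REC-NUM)

* `cyc_table`, `om_large`.
-/

set_option autoImplicit false

namespace Cfsg.Agent.H152.Rec

open Finset Cfsg.Agent.H367.Rec

/-! ### distinct positive integers -/

theorem sum_pos_distinct (s : Finset ℕ) (h : ∀ x ∈ s, 0 < x) : s.card * (s.card + 1) ≤ 2 * ∑ x ∈ s, x := by
  induction s using Finset.induction_on_max with
  | empty => simp
  | insert a s hlt ih =>
    have ha : a ∉ s := fun h1 => lt_irrefl _ (hlt a h1)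
    rw [card_insert_of_notMem ha, sum_insert ha]
    have h1 := ih fun x hx => h x (mem_insert_of_mem hx)
    have h2 : s.card + 1 ≤ a := by
      have h3 : s ⊆ (Ioo 0 a) := fun x hx => mem_Ioo.2 ⟨h x (mem_insert_of_mem hx), hlt x hx⟩
      have h4 := card_le_card h3
      rw [Nat.card_Ioo] at h4
      have h5 := h a (mem_insert_self a s)
      omega
    nlinarith

/-! ### numbers all of whose prime divisors are `1` modulo `2e` -/

variable {e N : ℕ}

theorem part_mod (h : ∀ p ∈ N.primeFactors, p % (2 * e) = 1 % (2 * e)) {p : ℕ} (hp : p ∈ N.primeFactors) (a : ℕ) :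
    p ^ a % (2 * e) = 1 % (2 * e) := by
  have h1 : p ≡ 1 [MOD 2 * e] := h p hp
  have h2 := h1.pow a
  rwa [one_pow] at h2

theorem part_spec (he : 0 < e) (h : ∀ p ∈ N.primeFactors, p % (2 * e) = 1 % (2 * e)) {p : ℕ} (hp : p ∈ N.primeFactors) :
    ∃ j, 0 < j ∧ p ^ N.factorization p = 2 * e * j + 1 := by
  have h1 := part_mod h hp (N.factorization p)
  have hpp := Nat.prime_of_mem_primeFactors hp
  have h2 : 1 < p ^ N.factorization p := by
    refine Nat.one_lt_pow ?_ hpp.one_lt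
    exact (hpp.factorization_pos_of_dvd (Nat.pos_of_mem_primeFactors hp |>.ne' |> fun _ => (Nat.mem_primeFactors.1 hp).2.2)
      (Nat.dvd_of_mem_primeFactors hp)).ne'
  rw [Nat.mod_eq_of_lt (by omega : 1 < 2 * e)] at h1
  refine ⟨p ^ N.factorization p / (2 * e), ?_, ?_⟩
  · by_contra h0
    push Not at h0
    have h3 := Nat.div_add_mod (p ^ N.factorization p) (2 * e)
    rw [h1, Nat.le_zero.1 h0] at h3
    omega
  · have h3 := Nat.div_add_mod (p ^ N.factorization p) (2 * e)
    rw [h1] at h3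
    exact h3.symm

theorem sg_ge (he : 0 < e) (h : ∀ p ∈ N.primeFactors, p % (2 * e) = 1 % (2 * e)) :
    e * (N.primeFactors.card * (N.primeFactors.card + 1)) ≤ sg N := by
  classical
  choose! j hj using fun p (hp : p ∈ N.primeFactors) => part_spec he h hp
  have hinj : Set.InjOn j (N.primeFactors : Set ℕ) := by
    intro a ha b hb hab
    rw [mem_coe] at ha hb
    have h1 := (hj a ha).2
    have h2 := (hj b hb).2
    rw [hab, ← h2] at h1
    have hap := Nat.prime_of_mem_primeFactors ha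
    have hbp := Nat.prime_of_mem_primeFactors hb
    have hN : N ≠ 0 := (Nat.mem_primeFactors.1 ha).2.2
    have h3 : a ∣ b ^ N.factorization b := by
      rw [← h1]
      exact dvd_pow_self a (hap.factorization_pos_of_dvd hN (Nat.dvd_of_mem_primeFactors ha)).ne'
    exact (Nat.prime_dvd_prime_iff_eq hap hbp).1 (hap.dvd_of_dvd_pow h3)
  have h1 := sum_pos_distinct (N.primeFactors.image j) (by
    intro x hx
    obtain ⟨p, hp, rfl⟩ := mem_image.1 hx
    exact (hj p hp).1)
  rw [card_image_of_injOn hinj, sum_image hinj] at h1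
  have h2 : sg N = ∑ p ∈ N.primeFactors, (2 * e * j p + 1) := sum_congr rfl fun p hp => (hj p hp).2
  rw [h2, sum_add_distrib, ← mul_sum]
  have h3 := Nat.mul_le_mul_left e h1
  have h4 : e * (2 * ∑ x ∈ N.primeFactors, j x) = 2 * e * ∑ x ∈ N.primeFactors, j x := by ring
  omega

theorem le_sg_pow (hN : N ≠ 0) : N ≤ sg N ^ N.primeFactors.card := by
  have h1 : N = ∏ p ∈ N.primeFactors, p ^ N.factorization p := by
    conv_lhs => rw [← Nat.prod_factorization_pow_eq_self hN]
    rfl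
  have h2 : ∏ p ∈ N.primeFactors, p ^ N.factorization p ≤ sg N ^ N.primeFactors.card := by
    refine prod_le_pow_card _ _ _ fun p hp => ?_
    exact single_le_sum (f := fun p => p ^ N.factorization p) (fun _ _ => Nat.zero_le _) hp
  omega

theorem dvd_prod (he : 0 < e) (h : ∀ p ∈ N.primeFactors, p % (2 * e) = 1 % (2 * e)) (hN : N ≠ 0) {J : ℕ}
    (hJ : sg N < 2 * e * (J + 1) + 1) : N ∣ ∏ j ∈ range J, (2 * e * (j + 1) + 1) := by
  classical
  choose! j hj using fun p (hp : p ∈ N.primeFactors) => part_spec he h hp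
  have hinj : Set.InjOn (fun p => j p - 1) (N.primeFactors : Set ℕ) := by
    intro a ha b hb hab'
    rw [mem_coe] at ha hb
    have hab : j a = j b := by
      have h1 := (hj a ha).1
      have h2 := (hj b hb).1
      simp only at hab'
      omega
    have h1 := (hj a ha).2
    have h2 := (hj b hb).2
    rw [hab, ← h2] at h1
    have hap := Nat.prime_of_mem_primeFactors ha
    have hbp := Nat.prime_of_mem_primeFactors hb
    have h3 : a ∣ b ^ N.factorization b := by
      rw [← h1]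
      exact dvd_pow_self a (hap.factorization_pos_of_dvd hN (Nat.dvd_of_mem_primeFactors ha)).ne'
    exact (Nat.prime_dvd_prime_iff_eq hap hbp).1 (hap.dvd_of_dvd_pow h3)
  have h1 : N = ∏ p ∈ N.primeFactors, p ^ N.factorization p := by
    conv_lhs => rw [← Nat.prod_factorization_pow_eq_self hN]
    rfl
  have h2 : ∏ p ∈ N.primeFactors, p ^ N.factorization p =
      ∏ x ∈ N.primeFactors.image (fun p => j p - 1), (2 * e * (x + 1) + 1) := by
    rw [prod_image hinj]
    refine prod_congr rfl fun p hp => ?_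
    rw [(hj p hp).2, Nat.sub_add_cancel (hj p hp).1]
  rw [h1, h2]
  refine prod_dvd_prod_of_subset _ _ _ fun x hx => ?_
  obtain ⟨p, hp, rfl⟩ := mem_image.1 hx
  rw [mem_range]
  have h3 : p ^ N.factorization p ≤ sg N :=
    single_le_sum (f := fun p => p ^ N.factorization p) (fun _ _ => Nat.zero_le _) hp
  rw [(hj p hp).2] at h3
  have h4 := (hj p hp).1
  have h5 : 2 * e * j p < 2 * e * (J + 1) := by omega
  have h6 := Nat.lt_of_mul_lt_mul_left h5
  omega

/-! ### cyclotomic numbers -/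

section cyc

variable {q : ℕ}

theorem geom (_hq : 2 ≤ q) : (q ^ e - 1) / (q - 1) * (q - 1) = q ^ e - 1 :=
  Nat.div_mul_cancel (by simpa using Nat.sub_dvd_pow_sub_pow q 1 e)

theorem geom_eq_sum (hq : 2 ≤ q) : (q ^ e - 1) / (q - 1) = ∑ i ∈ range e, q ^ i := by
  rw [Nat.geomSum_eq hq]

theorem gcd_dvd_geom (hq : 2 ≤ q) : Nat.gcd e (q - 1) ∣ (q ^ e - 1) / (q - 1) := by
  rw [geom_eq_sum hq]
  have h1 : (∑ i ∈ range e, q ^ i) ≡ ∑ i ∈ range e, 1 ^ i [MOD (Nat.gcd e (q - 1))] := by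
    have h2 : q ≡ 1 [MOD (Nat.gcd e (q - 1))] := by
      have h3 : 1 ≡ q [MOD (Nat.gcd e (q - 1))] :=
        (Nat.modEq_iff_dvd' (by omega)).2 (Nat.gcd_dvd_right _ _)
      exact h3.symm
    refine Nat.ModEq.sum fun i _ => ?_
    exact h2.pow i
  simp only [one_pow, sum_const, card_range, smul_eq_mul, mul_one] at h1
  exact (Nat.modEq_zero_iff_dvd.1 (h1.trans ((Nat.modEq_zero_iff_dvd).2 (Nat.gcd_dvd_left _ _))))

theorem cyc_mul_gcd (hq : 2 ≤ q) : cyc e q * Nat.gcd e (q - 1) = (q ^ e - 1) / (q - 1) := by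
  rw [cyc, ← Nat.div_div_eq_div_mul]
  exact Nat.div_mul_cancel (gcd_dvd_geom hq)

theorem cyc_dvd (hq : 2 ≤ q) : cyc e q ∣ q ^ e - 1 := by
  rw [← geom hq, ← cyc_mul_gcd hq]
  exact ⟨Nat.gcd e (q - 1) * (q - 1), by ring⟩

theorem pow_le_geom (he : 0 < e) (hq : 2 ≤ q) : q ^ (e - 1) ≤ (q ^ e - 1) / (q - 1) := by
  rw [geom_eq_sum hq]
  exact single_le_sum (f := fun i => q ^ i) (fun _ _ => Nat.zero_le _) (mem_range.2 (by omega))

theorem cyc_ne_zero (he : 0 < e) (hq : 2 ≤ q) : cyc e q ≠ 0 := by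
  intro h0
  have h1 := cyc_mul_gcd (e := e) hq
  rw [h0, zero_mul] at h1
  have h2 := pow_le_geom he hq
  have h3 : 0 < q ^ (e - 1) := by positivity
  omega

/-- the prime divisors of `cyc e q` are `1` modulo `2 e` -/
theorem prime_mod (he : e.Prime) (he2 : e ≠ 2) (hq : 2 ≤ q) : ∀ p ∈ (cyc e q).primeFactors, p % (2 * e) = 1 % (2 * e) := by
  intro p hp
  have hpp := Nat.prime_of_mem_primeFactors hp
  have hd := Nat.dvd_of_mem_primeFactors hp
  have : Fact p.Prime := ⟨hpp⟩
  have h1 : (q : ZMod p) ^ e = 1 := by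
    have h2 := hd.trans (cyc_dvd hq)
    have h3 : ((q ^ e - 1 : ℕ) : ZMod p) = 0 := (ZMod.natCast_eq_zero_iff _ _).2 h2
    rw [Nat.cast_sub (Nat.one_le_pow _ _ (by omega))] at h3
    push_cast at h3
    exact sub_eq_zero.1 h3
  have he' : Odd e := he.odd_of_ne_two he2
  by_cases h2 : (q : ZMod p) = 1
  · exfalso
    -- `p ∣ q - 1`
    have h3 : p ∣ q - 1 := by
      rw [← ZMod.natCast_eq_zero_iff, Nat.cast_sub (by omega), h2]
      simp
    have h4 : p ∣ (q ^ e - 1) / (q - 1) := hd.trans ⟨_, (cyc_mul_gcd hq).symm⟩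
    have h5 : p = e := by
      rw [geom_eq_sum hq, ← ZMod.natCast_eq_zero_iff] at h4
      push_cast at h4
      rw [h2] at h4
      simp only [one_pow, sum_const, card_range, nsmul_eq_mul, mul_one] at h4
      rw [ZMod.natCast_eq_zero_iff] at h4
      exact (Nat.prime_dvd_prime_iff_eq hpp he).1 h4
    subst h5
    have h6 : Nat.gcd p (q - 1) = p := Nat.gcd_eq_left h3
    have h7 : p ^ 2 * (q - 1) ∣ q ^ p - 1 := by
      obtain ⟨c, hc⟩ := hd
      refine ⟨c, ?_⟩
      have h8 := cyc_mul_gcd (e := p) hq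
      rw [h6, hc] at h8
      rw [← geom hq, ← h8]
      ring
    have h8 : padicValNat p (q ^ p - 1) = padicValNat p (q - 1) + padicValNat p p := by
      have := padicValNat.pow_sub_pow (p := p) (x := q) (y := 1) (n := p) he' (by omega) h3
        (fun h => by
          have h9 := (Nat.dvd_sub h h3)
          rw [Nat.sub_sub_self (by omega)] at h9
          exact hpp.one_lt.ne' (Nat.dvd_one.1 h9)) hpp.ne_zero
      rwa [one_pow] at this
    rw [padicValNat_self] at h8
    have h9 : padicValNat p (p ^ 2 * (q - 1)) ≤ padicValNat p (q ^ p - 1) := by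
      apply padicValNat_dvd_iff_le _ |>.1
      · exact (pow_padicValNat_dvd).trans h7
      · have : q < q ^ p := by
          calc q = q ^ 1 := (pow_one q).symm
            _ < q ^ p := Nat.pow_lt_pow_right (by omega) hpp.one_lt
        omega
    rw [padicValNat.mul (pow_ne_zero 2 hpp.ne_zero) (by omega), padicValNat.prime_pow] at h9
    omega
  · have : Fact e.Prime := ⟨he⟩
    have h3 : orderOf (q : ZMod p) = e := orderOf_eq_prime h1 h2
    have hq0 : (q : ZMod p) ≠ 0 := by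
      intro h0
      rw [h0, zero_pow he.ne_zero] at h1
      exact zero_ne_one h1
    have h4 : e ∣ p - 1 := by
      rw [← h3]
      exact ZMod.orderOf_dvd_card_sub_one hq0
    have hp2 : p ≠ 2 := by
      rintro rfl
      have := Nat.le_of_dvd (by norm_num) h4
      exact absurd this (not_le.2 (by norm_num; exact he.one_lt))
    have h5 : 2 ∣ p - 1 := by
      have := hpp.odd_of_ne_two hp2
      obtain ⟨m, hm⟩ := this
      exact ⟨m, by omega⟩
    have h6 : 2 * e ∣ p - 1 := Nat.Coprime.mul_dvd_of_dvd_of_dvd (by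
      rw [Nat.coprime_two_left]; exact he') h5 h4
    have h7 : 1 ≡ p [MOD 2 * e] := (Nat.modEq_iff_dvd' hpp.one_lt.le).2 h6
    exact h7.symm

theorem gcd_le (he : 0 < e) : Nat.gcd e (q - 1) ≤ e := Nat.gcd_le_left _ he

/-- the finite check -/
theorem lt_of_check (he : e.Prime) (he2 : e ≠ 2) (hq : 2 ≤ q) {B k Q J : ℕ} (hk : B < e * ((k + 1) * (k + 2)))
    (hQ : e * B ^ k < (Q + 1) ^ (e - 1)) (hJ : B < 2 * e * (J + 1) + 1) (hB : 0 < B)
    (hc : ∀ r, 2 ≤ r → r ≤ Q → (∏ j ∈ range J, (2 * e * (j + 1) + 1)) % cyc e r ≠ 0) : B < sg (cyc e q) := by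
  by_contra hcon
  push Not at hcon
  have hm := prime_mod he he2 hq
  have h0 := cyc_ne_zero he.pos hq
  have h1 := sg_ge he.pos hm
  have h2 := le_sg_pow h0
  have h3 : (cyc e q).primeFactors.card ≤ k := by
    by_contra h
    push Not at h
    have : (k + 1) * (k + 2) ≤ (cyc e q).primeFactors.card * ((cyc e q).primeFactors.card + 1) :=
      Nat.mul_le_mul h (by omega)
    have := Nat.mul_le_mul_left e this
    omega
  have h4 : cyc e q ≤ B ^ k := by
    refine h2.trans ((Nat.pow_le_pow_left hcon _).trans (Nat.pow_le_pow_right hB h3))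
  have h5 : q ^ (e - 1) ≤ e * B ^ k := by
    refine (pow_le_geom he.pos hq).trans ?_
    rw [← cyc_mul_gcd hq, mul_comm]
    exact Nat.mul_le_mul (gcd_le he.pos) h4
  have h6 : q < Q + 1 := lt_of_pow_lt_pow_left₀ (e - 1) (Nat.zero_le _) (lt_of_le_of_lt h5 hQ)
  refine hc q hq (by omega) (Nat.mod_eq_zero_of_dvd ?_)
  exact dvd_prod he.pos hm h0 (lt_of_le_of_lt hcon hJ)

/-- **small cyclotomic numbers** -/
theorem cyc_table (hq : 2 ≤ q) : 107 ≤ sg (cyc 7 q) ∧ 281 ≤ sg (cyc 13 q) ∧ 3900 ≤ sg (cyc 31 q) := by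
  refine ⟨?_, ?_, ?_⟩
  · refine lt_of_check (B := 106) (k := 3) (Q := 14) (J := 7) (by norm_num) (by norm_num) hq (by norm_num) (by norm_num)
      (by norm_num) (by norm_num) ?_
    have h : ∀ r ∈ Finset.Icc 2 14, (∏ j ∈ range 7, (2 * 7 * (j + 1) + 1)) % cyc 7 r ≠ 0 := by decide +kernel
    exact fun r h1 h2 => h r (mem_Icc.2 ⟨h1, h2⟩)
  · refine lt_of_check (B := 280) (k := 4) (Q := 8) (J := 10) (by norm_num) (by norm_num) hq (by norm_num) (by norm_num)
      (by norm_num) (by norm_num) ?_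
    have h : ∀ r ∈ Finset.Icc 2 8, (∏ j ∈ range 10, (2 * 13 * (j + 1) + 1)) % cyc 13 r ≠ 0 := by decide +kernel
    exact fun r h1 h2 => h r (mem_Icc.2 ⟨h1, h2⟩)
  · refine lt_of_check (B := 3899) (k := 10) (Q := 17) (J := 62) (by norm_num) (by norm_num) hq (by norm_num)
      (by norm_num) (by norm_num) (by norm_num) ?_
    have h : ∀ r ∈ Finset.Icc 2 17, (∏ j ∈ range 62, (2 * 31 * (j + 1) + 1)) % cyc 31 r ≠ 0 := by decide +kernel
    exact fun r h1 h2 => h r (mem_Icc.2 ⟨h1, h2⟩)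

theorem two_pow_le_cyc (he : e.Prime) (h3 : 3 ≤ e) (hq : 2 ≤ q) : 2 ^ (e - 1) ≤ cyc e q := by
  have h1 := cyc_mul_gcd (e := e) hq
  have h2 := pow_le_geom he.pos hq
  rcases (Nat.dvd_prime he).1 (Nat.gcd_dvd_left e (q - 1)) with h4 | h4
  · rw [h4, mul_one] at h1
    rw [h1]
    exact (Nat.pow_le_pow_left hq _).trans h2
  · have h5 : e ∣ q - 1 := by
      rw [← h4]; exact Nat.gcd_dvd_right _ _
    have h6 : e ≤ q - 1 := Nat.le_of_dvd (by omega) h5
    rw [h4] at h1
    have h7 : e * q ^ (e - 2) ≤ cyc e q * e := by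
      rw [h1]
      refine le_trans ?_ h2
      have : q ^ (e - 1) = q * q ^ (e - 2) := by
        rw [← pow_succ']; congr 1; omega
      rw [this]
      exact Nat.mul_le_mul_right _ (by omega)
    rw [mul_comm] at h7
    have h8 := Nat.le_of_mul_le_mul_right h7 he.pos
    refine le_trans ?_ h8
    calc 2 ^ (e - 1) ≤ 2 ^ (2 * (e - 2)) := Nat.pow_le_pow_right (by norm_num) (by omega)
      _ = 4 ^ (e - 2) := by rw [pow_mul]; norm_num
      _ ≤ q ^ (e - 2) := Nat.pow_le_pow_left (by omega) _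

/-- `log n ≤ 11.0022 z`, `z ^ 5 = n / 60000` -/
theorem log_pow_five {n : ℕ} (hn : 60000 ≤ n) : Real.log n ^ 5 ≤ 2.7 * (n : ℝ) := by
  have hn' : (60000 : ℝ) ≤ n := by exact_mod_cast hn
  set z : ℝ := ((n : ℝ) / 60000) ^ (1 / 5 : ℝ) with hz
  have h0 : (1 : ℝ) ≤ (n : ℝ) / 60000 := by
    rw [le_div_iff₀ (by norm_num)]; linarith
  have hz1 : 1 ≤ z := Real.one_le_rpow h0 (by norm_num)
  have hz5 : z ^ 5 = (n : ℝ) / 60000 := by
    rw [hz, ← Real.rpow_natCast, ← Real.rpow_mul (by linarith)]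
    norm_num
  have h1 : (n : ℝ) = 60000 * z ^ 5 := by rw [hz5]; field_simp
  have h2 : Real.log n ≤ 11.0022 * z := by
    rw [h1, Real.log_mul (by norm_num) (by positivity), Real.log_pow]
    have h3 := Real.log_le_sub_one_of_pos (show 0 < z by linarith)
    have h4 := Cfsg.Agent.H357.Cheb.log_N0
    push_cast
    linarith
  have h3 : 0 ≤ Real.log n := Real.log_nonneg (by linarith)
  calc Real.log n ^ 5 ≤ (11.0022 * z) ^ 5 := pow_le_pow_left₀ h3 h2 5
    _ = 11.0022 ^ 5 * z ^ 5 := mul_pow _ _ _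
    _ = 11.0022 ^ 5 * ((n : ℝ) / 60000) := by rw [hz5]
    _ ≤ 2.7 * (n : ℝ) := by
      have : (11.0022 : ℝ) ^ 5 ≤ 162000 := by norm_num
      rw [mul_div_assoc', div_le_iff₀ (by norm_num)]
      nlinarith

/-- **large cyclotomic numbers** -/
theorem om_large {n : ℕ} (hn : 3900 ≤ n) (h31 : 31 ≤ e) (he : e.Prime) (hq : 2 ≤ q) (h : sg (cyc e q) ≤ n) :
    3 * e + 20 ≤ 2 * (om n).card := by
  have he2 : e ≠ 2 := by omega
  have hm := prime_mod he he2 hq
  have h0 := cyc_ne_zero he.pos hq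
  have h1 := (sg_ge he.pos hm).trans h
  have h2 := (two_pow_le_cyc he (by omega) hq).trans ((le_sg_pow h0).trans (Nat.pow_le_pow_left h _))
  set k := (cyc e q).primeFactors.card with hk
  rcases Nat.lt_or_ge n 20000 with h20 | h20
  · have h3 := om_ge_240 hn
    by_contra hcon
    have h4 : 154 ≤ e := by omega
    have h5 : k ≤ 10 := by
      by_contra hk'
      push Not at hk'
      have : 11 * 12 ≤ k * (k + 1) := Nat.mul_le_mul hk' (by omega)
      have := Nat.mul_le_mul h4 this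
      omega
    have h6 : 2 ^ 153 ≤ 20000 ^ 10 :=
      calc 2 ^ 153 ≤ 2 ^ (e - 1) := Nat.pow_le_pow_right (by norm_num) (by omega)
        _ ≤ n ^ k := h2
        _ ≤ 20000 ^ k := Nat.pow_le_pow_left h20.le k
        _ ≤ 20000 ^ 10 := Nat.pow_le_pow_right (by norm_num) h5
    exact absurd h6 (by norm_num)
  rcases Nat.lt_or_ge n 60000 with h60 | h60
  · have h3 := om_ge_400 h20
    by_contra hcon
    have h4 : 261 ≤ e := by omega
    have h5 : k ≤ 14 := by
      by_contra hk'
      push Not at hk'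
      have : 15 * 16 ≤ k * (k + 1) := Nat.mul_le_mul hk' (by omega)
      have := Nat.mul_le_mul h4 this
      omega
    have h6 : 2 ^ 250 ≤ 60000 ^ 14 :=
      calc 2 ^ 250 ≤ 2 ^ (e - 1) := Nat.pow_le_pow_right (by norm_num) (by omega)
        _ ≤ n ^ k := h2
        _ ≤ 60000 ^ k := Nat.pow_le_pow_left h60.le k
        _ ≤ 60000 ^ 14 := Nat.pow_le_pow_right (by norm_num) h5
    exact absurd h6 (by norm_num)
  · by_contra hcon
    have hn' : (60000 : ℝ) ≤ n := by exact_mod_cast h60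
    have a1 := om_log h60
    have a2 := Cfsg.Agent.H357.Cheb.log_le_lin h60
    have a3 := log_pow_five h60
    set t := Real.log n with ht
    have ht0 : 0 ≤ t := Real.log_nonneg (by linarith)
    have a4 : 2 * ((om n).card : ℝ) ≤ 3 * (e : ℝ) + 19 := by
      have : 2 * (om n).card ≤ 3 * e + 19 := by omega
      exact_mod_cast this
    have a5 : 2 * ((om n).card : ℝ) * t ≤ (3 * (e : ℝ) + 19) * t := mul_le_mul_of_nonneg_right a4 ht0
    have a6 : 0.2314 * (n : ℝ) ≤ e * t := by nlinarith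
    have a7 : (e : ℝ) * (k : ℝ) ^ 2 ≤ n := by
      have : e * k ^ 2 ≤ n := by
        refine le_trans (Nat.mul_le_mul_left e ?_) h1
        nlinarith
      exact_mod_cast this
    have he0 : (0 : ℝ) < e := by exact_mod_cast he.pos
    have a8 : (k : ℝ) ^ 2 ≤ 4.33 * t := by
      by_contra hc
      push Not at hc
      have := mul_lt_mul_of_pos_left hc he0
      nlinarith
    have a9 : ((e : ℝ) - 1) * Real.log 2 ≤ k * t := by
      have b1 : ((2 : ℝ)) ^ (e - 1) ≤ (n : ℝ) ^ k := by exact_mod_cast h2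
      have b2 := Real.log_le_log (by positivity) b1
      rw [Real.log_pow, Real.log_pow, Nat.cast_sub he.one_lt.le, Nat.cast_one] at b2
      exact b2
    have hl2 := Real.log_two_gt_d9
    -- multiply by `t`
    have b1 : 0.2312 * (n : ℝ) ≤ ((e : ℝ) - 1) * t := by nlinarith
    have b2 : 0.16 * (n : ℝ) ≤ k * t ^ 2 := by
      have c1 : ((e : ℝ) - 1) * Real.log 2 * t ≤ k * t * t := mul_le_mul_of_nonneg_right a9 ht0
      have c2 : 0.693 * (0.2312 * (n : ℝ)) ≤ Real.log 2 * (((e : ℝ) - 1) * t) := by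
        refine mul_le_mul (by linarith) b1 (by positivity) (by linarith)
      nlinarith
    have b3 : (0.16 * (n : ℝ)) ^ 2 ≤ (k * t ^ 2) ^ 2 := pow_le_pow_left₀ (by positivity) b2 2
    have b4 : (k * t ^ 2) ^ 2 ≤ 4.33 * t ^ 5 := by
      have c1 : (k : ℝ) ^ 2 * t ^ 4 ≤ 4.33 * t * t ^ 4 := mul_le_mul_of_nonneg_right a8 (by positivity)
      nlinarith
    nlinarith

end cyc

end Cfsg.Agent.H152.Rec
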