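import Cfsg.Agent.H357.ChebMid
import Cfsg.Agent.H152.Rec.NumDefs
import Cfsg.Agent.H152.Rec.NumTab

/-!
# The number of primes in `(n/2, n]` (helper152, task REC-NUM)

* `om_table` : lower bounds for all `n`;
* `om_log` : `0.349 n ≤ |om n| log n` for `n ≥ 60000`.
-/

set_option autoImplicit false

namespace Cfsg.Agent.H152.Rec

open Finset Cfsg.Agent.H357.Cheb

/-- strictly increasing primes, all larger than `x` -/
def incB : ℕ → List ℕ → Bool
  | _, [] => true
  | x, t :: l => Nat.blt x t && isP t && incB t l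

/-- `m` is termwise at most twice `l` -/
def lagB : List ℕ → List ℕ → Bool
  | _, [] => true
  | [], _ :: _ => false
  | a :: l, b :: m => Nat.ble b (2 * a) && lagB l m

def tabOk (c : ℕ) (l : List ℕ) : Bool := incB 0 l && lagB l (l.drop c)

theorem incB_spec : ∀ (l : List ℕ) (x : ℕ), incB x l = true →
    (∀ i, i < l.length → x < l.getD i 0 ∧ (l.getD i 0).Prime) ∧
      (∀ i j, i < j → j < l.length → l.getD i 0 < l.getD j 0)
  | [], _, _ => ⟨fun i hi => absurd hi (Nat.not_lt_zero i), fun i j _ hj => absurd hj (Nat.not_lt_zero j)⟩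
  | t :: l, x, h => by
    unfold incB at h
    rw [Bool.and_eq_true, Bool.and_eq_true, Nat.blt_eq] at h
    obtain ⟨⟨h1, h2⟩, h3⟩ := h
    obtain ⟨h4, h5⟩ := incB_spec l t h3
    refine ⟨?_, ?_⟩
    · intro i hi
      rcases i with _ | i
      · exact ⟨h1, prime_of_isP h2⟩
      · have := h4 i (by simpa using hi)
        rw [List.getD_cons_succ]
        exact ⟨by omega, this.2⟩
    · intro i j hij hj
      rcases j with _ | j
      · omega
      · have hj' : j < l.length := by simpa using hj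
        rw [List.getD_cons_succ]
        rcases i with _ | i
        · rw [List.getD_cons_zero]
          exact (h4 j hj').1
        · rw [List.getD_cons_succ]
          exact h5 i j (by omega) hj'

theorem lagB_spec : ∀ (l m : List ℕ), lagB l m = true → ∀ i, i < m.length → m.getD i 0 ≤ 2 * l.getD i 0
  | _, [], _, i, hi => absurd hi (Nat.not_lt_zero i)
  | [], _ :: _, h, _, _ => by simp [lagB] at h
  | a :: l, b :: m, h, i, hi => by
    unfold lagB at h
    rw [Bool.and_eq_true, Nat.ble_eq] at h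
    rcases i with _ | i
    · exact h.1
    · rw [List.getD_cons_succ, List.getD_cons_succ]
      exact lagB_spec l m h.2 i (by simpa using hi)

theorem card_om_of_tab {c : ℕ} (hc : 0 < c) {l : List ℕ} (h : tabOk c l = true) (hcl : c < l.length) {n : ℕ}
    (h1 : l.getD (c - 1) 0 ≤ n) (h2 : n < l.getD (l.length - 1) 0) : c ≤ (om n).card := by
  unfold tabOk at h
  rw [Bool.and_eq_true] at h
  obtain ⟨h3, h4⟩ := incB_spec l 0 h.1
  have h5 := lagB_spec l (l.drop c) h.2
  have h6 : ∀ i, i + c < l.length → l.getD (i + c) 0 ≤ 2 * l.getD i 0 := by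
    intro i hi
    have := h5 i (by rw [List.length_drop]; omega)
    rwa [List.getD_eq_getElem?_getD, List.getElem?_drop, add_comm c i, ← List.getD_eq_getElem?_getD] at this
  classical
  set j := Nat.findGreatest (fun j => l.getD j 0 ≤ n) (l.length - 1) with hj
  have h7 : c - 1 ≤ j := Nat.le_findGreatest (by omega) h1
  have h8 : l.getD j 0 ≤ n := Nat.findGreatest_spec (P := fun j => l.getD j 0 ≤ n) (by omega : c - 1 ≤ l.length - 1) h1
  have h9 : j ≤ l.length - 1 := Nat.findGreatest_le _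
  have h10 : j < l.length - 1 := by
    rcases Nat.lt_or_ge j (l.length - 1) with h11 | h11
    · exact h11
    · have h12 : j = l.length - 1 := by omega
      rw [h12] at h8
      omega
  have h11 : n < l.getD (j + 1) 0 := by
    have := Nat.findGreatest_is_greatest (P := fun j => l.getD j 0 ≤ n) (n := l.length - 1) (k := j + 1)
      (by rw [← hj]; omega) (by omega)
    exact not_le.1 this
  have h12 := h6 (j + 1 - c) (by omega)
  rw [show j + 1 - c + c = j + 1 by omega] at h12
  have h13 := Finset.card_le_card_of_injOn (s := range c) (t := om n) (fun k => l.getD (j + 1 - c + k) 0) ?_ ?_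
  · rwa [card_range] at h13
  · intro k hk
    rw [coe_range, Set.mem_Iio] at hk
    have h14 : l.getD (j + 1 - c) 0 ≤ l.getD (j + 1 - c + k) 0 := by
      rcases Nat.eq_zero_or_pos k with rfl | hk0
      · exact le_refl _
      · exact (h4 _ _ (by omega) (by omega)).le
    have h15 : l.getD (j + 1 - c + k) 0 ≤ l.getD j 0 := by
      rcases Nat.lt_or_ge (j + 1 - c + k) j with h16 | h16
      · exact (h4 _ _ h16 (by omega)).le
      · rw [show j + 1 - c + k = j by omega]
    simp only [om, coe_filter, mem_Ioc, Set.mem_ofPred_eq]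
    exact ⟨⟨by omega, by omega⟩, (h3 _ (by omega)).2⟩
  · intro a ha b hb hab
    rw [coe_range, Set.mem_Iio] at ha hb
    rcases lt_trichotomy a b with h16 | h16 | h16
    · exact absurd hab (h4 _ _ (by omega) (by omega)).ne
    · exact h16
    · exact absurd hab (h4 _ _ (by omega) (by omega)).ne'

theorem ok3 : tabOk 3 t3 = true := by decide +kernel
theorem ok4 : tabOk 4 t4 = true := by decide +kernel
theorem ok5 : tabOk 5 t5 = true := by decide +kernel
theorem ok6 : tabOk 6 t6 = true := by decide +kernel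
theorem ok7 : tabOk 7 t7 = true := by decide +kernel
theorem ok9 : tabOk 9 t9 = true := by decide +kernel
theorem ok12 : tabOk 12 t12 = true := by decide +kernel
theorem ok18 : tabOk 18 t18 = true := by decide +kernel
theorem ok26 : tabOk 26 t26 = true := by decide +kernel
theorem ok48 : tabOk 48 t48 = true := by decide +kernel
theorem ok240 : tabOk 240 t240 = true := by decide +kernel
theorem ok400 : tabOk 400 t400 = true := by decide +kernel

theorem om3 {n : ℕ} (h1 : 17 ≤ n) (h2 : n < 29) : 3 ≤ (om n).card :=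
  card_om_of_tab (by norm_num) ok3 (by decide +kernel) (le_trans (by decide +kernel) h1) (lt_of_lt_of_le h2 (by decide +kernel))
theorem om4 {n : ℕ} (h1 : 29 ≤ n) (h2 : n < 41) : 4 ≤ (om n).card :=
  card_om_of_tab (by norm_num) ok4 (by decide +kernel) (le_trans (by decide +kernel) h1) (lt_of_lt_of_le h2 (by decide +kernel))
theorem om5 {n : ℕ} (h1 : 41 ≤ n) (h2 : n < 47) : 5 ≤ (om n).card :=
  card_om_of_tab (by norm_num) ok5 (by decide +kernel) (le_trans (by decide +kernel) h1) (lt_of_lt_of_le h2 (by decide +kernel))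
theorem om6 {n : ℕ} (h1 : 47 ≤ n) (h2 : n < 59) : 6 ≤ (om n).card :=
  card_om_of_tab (by norm_num) ok6 (by decide +kernel) (le_trans (by decide +kernel) h1) (lt_of_lt_of_le h2 (by decide +kernel))
theorem om7 {n : ℕ} (h1 : 59 ≤ n) (h2 : n < 71) : 7 ≤ (om n).card :=
  card_om_of_tab (by norm_num) ok7 (by decide +kernel) (le_trans (by decide +kernel) h1) (lt_of_lt_of_le h2 (by decide +kernel))
theorem om9 {n : ℕ} (h1 : 71 ≤ n) (h2 : n < 107) : 9 ≤ (om n).card :=
  card_om_of_tab (by norm_num) ok9 (by decide +kernel) (le_trans (by decide +kernel) h1) (lt_of_lt_of_le h2 (by decide +kernel))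
theorem om12 {n : ℕ} (h1 : 107 ≤ n) (h2 : n < 181) : 12 ≤ (om n).card :=
  card_om_of_tab (by norm_num) ok12 (by decide +kernel) (le_trans (by decide +kernel) h1) (lt_of_lt_of_le h2 (by decide +kernel))
theorem om18 {n : ℕ} (h1 : 181 ≤ n) (h2 : n < 281) : 18 ≤ (om n).card :=
  card_om_of_tab (by norm_num) ok18 (by decide +kernel) (le_trans (by decide +kernel) h1) (lt_of_lt_of_le h2 (by decide +kernel))
theorem om26 {n : ℕ} (h1 : 281 ≤ n) (h2 : n < 601) : 26 ≤ (om n).card :=
  card_om_of_tab (by norm_num) ok26 (by decide +kernel) (le_trans (by decide +kernel) h1) (lt_of_lt_of_le h2 (by decide +kernel))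
theorem om48 {n : ℕ} (h1 : 601 ≤ n) (h2 : n < 3900) : 48 ≤ (om n).card :=
  card_om_of_tab (by norm_num) ok48 (by decide +kernel) (le_trans (by decide +kernel) h1) (lt_of_lt_of_le h2 (by decide +kernel))
theorem om240 {n : ℕ} (h1 : 3900 ≤ n) (h2 : n < 20100) : 240 ≤ (om n).card :=
  card_om_of_tab (by norm_num) ok240 (by decide +kernel) (le_trans (by decide +kernel) h1) (lt_of_lt_of_le h2 (by decide +kernel))
theorem om400 {n : ℕ} (h1 : 20000 ≤ n) (h2 : n < 60001) : 400 ≤ (om n).card :=
  card_om_of_tab (by norm_num) ok400 (by decide +kernel) (le_trans (by decide +kernel) h1) (lt_of_lt_of_le h2 (by decide +kernel))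

/-- large `n` -/
theorem om_log {n : ℕ} (hn : 60000 ≤ n) : 0.349 * (n : ℝ) ≤ (om n).card * Real.log n := by
  have hn' : (60000 : ℝ) ≤ n := by exact_mod_cast hn
  have h1 := theta_lower (m := n) (by omega)
  have h2 := psi_upper (n := n / 2) (by omega)
  have h3 := Chebyshev.theta_le_psi ((n / 2 : ℕ) : ℝ)
  have h4 : ((n / 2 : ℕ) : ℝ) ≤ 0.5 * (n : ℝ) := by
    have := Nat.cast_div_le (α := ℝ) (m := n) (n := 2)
    push_cast at this
    linarith
  have h5 : Real.log ((n / 2 : ℕ) : ℝ) ≤ Real.log n := by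
    apply Real.log_le_log
    · have : 0 < n / 2 := by omega
      exact_mod_cast this
    · linarith
  have h6 := log_le_lin hn
  have h7 := sqrt_le_lin hn
  have h8 : 0.349 * (n : ℝ) < Chebyshev.theta n - Chebyshev.theta (n / 2 : ℕ) := by linarith
  rw [theta_sub (by omega)] at h8
  have h10 : ∑ t ∈ (Ioc (n / 2) n).filter Nat.Prime, Real.log t ≤
      ∑ t ∈ (Ioc (n / 2) n).filter Nat.Prime, Real.log n := by
    refine sum_le_sum fun t ht => ?_
    rw [mem_filter, mem_Ioc] at ht
    apply Real.log_le_log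
    · exact_mod_cast ht.2.pos
    · exact_mod_cast ht.1.2
  rw [sum_const, nsmul_eq_mul] at h10
  exact (h8.trans_le h10).le

theorem om_large_card {n : ℕ} (hn : 60000 ≤ n) : 400 ≤ (om n).card := by
  have h1 := om_log hn
  have h2 := log_le_lin hn
  have hn' : (60000 : ℝ) ≤ n := by exact_mod_cast hn
  have h3 : (om n).card * Real.log n ≤ (om n).card * (0.000184 * (n : ℝ)) :=
    mul_le_mul_of_nonneg_left h2 (Nat.cast_nonneg _)
  have h4 : (400 : ℝ) ≤ (om n).card := by
    by_contra hcon
    push Not at hcon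
    have : (om n).card * (0.000184 * (n : ℝ)) ≤ 400 * (0.000184 * (n : ℝ)) :=
      mul_le_mul_of_nonneg_right hcon.le (by positivity)
    linarith
  exact_mod_cast h4

theorem om_ge_400 {n : ℕ} (hn : 20000 ≤ n) : 400 ≤ (om n).card := by
  rcases Nat.lt_or_ge n 60000 with h | h
  · exact om400 hn (by omega)
  · exact om_large_card h

theorem om_ge_240 {n : ℕ} (hn : 3900 ≤ n) : 240 ≤ (om n).card := by
  rcases Nat.lt_or_ge n 20000 with h | h
  · exact om240 hn (by omega)
  · exact le_trans (by norm_num) (om_ge_400 h)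

theorem om_ge_48 {n : ℕ} (hn : 601 ≤ n) : 48 ≤ (om n).card := by
  rcases Nat.lt_or_ge n 3900 with h | h
  · exact om48 hn h
  · exact le_trans (by norm_num) (om_ge_240 h)

theorem om_ge_26 {n : ℕ} (hn : 281 ≤ n) : 26 ≤ (om n).card := by
  rcases Nat.lt_or_ge n 601 with h | h
  · exact om26 hn h
  · exact le_trans (by norm_num) (om_ge_48 h)

theorem om_ge_18 {n : ℕ} (hn : 181 ≤ n) : 18 ≤ (om n).card := by
  rcases Nat.lt_or_ge n 281 with h | h
  · exact om18 hn h
  · exact le_trans (by norm_num) (om_ge_26 h)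

theorem om_ge_12 {n : ℕ} (hn : 107 ≤ n) : 12 ≤ (om n).card := by
  rcases Nat.lt_or_ge n 181 with h | h
  · exact om12 hn h
  · exact le_trans (by norm_num) (om_ge_18 h)

theorem om_ge_9 {n : ℕ} (hn : 71 ≤ n) : 9 ≤ (om n).card := by
  rcases Nat.lt_or_ge n 107 with h | h
  · exact om9 hn h
  · exact le_trans (by norm_num) (om_ge_12 h)

theorem om_ge_7 {n : ℕ} (hn : 59 ≤ n) : 7 ≤ (om n).card := by
  rcases Nat.lt_or_ge n 71 with h | h
  · exact om7 hn h
  · exact le_trans (by norm_num) (om_ge_9 h)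

theorem om_ge_6 {n : ℕ} (hn : 47 ≤ n) : 6 ≤ (om n).card := by
  rcases Nat.lt_or_ge n 59 with h | h
  · exact om6 hn h
  · exact le_trans (by norm_num) (om_ge_7 h)

theorem om_ge_5 {n : ℕ} (hn : 41 ≤ n) : 5 ≤ (om n).card := by
  rcases Nat.lt_or_ge n 47 with h | h
  · exact om5 hn h
  · exact le_trans (by norm_num) (om_ge_6 h)

theorem om_ge_4 {n : ℕ} (hn : 29 ≤ n) : 4 ≤ (om n).card := by
  rcases Nat.lt_or_ge n 41 with h | h
  · exact om4 hn h
  · exact le_trans (by norm_num) (om_ge_5 h)

theorem om_ge_3 {n : ℕ} (hn : 17 ≤ n) : 3 ≤ (om n).card := by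
  rcases Nat.lt_or_ge n 29 with h | h
  · exact om3 hn h
  · exact le_trans (by norm_num) (om_ge_4 h)

/-- **The number of primes in `(n/2, n]`** -/
theorem om_table {n : ℕ} : (17 ≤ n → 3 ≤ (om n).card) ∧ (29 ≤ n → 4 ≤ (om n).card) ∧ (41 ≤ n → 5 ≤ (om n).card) ∧
    (47 ≤ n → 6 ≤ (om n).card) ∧ (59 ≤ n → 7 ≤ (om n).card) ∧ (71 ≤ n → 9 ≤ (om n).card) ∧
    (107 ≤ n → 12 ≤ (om n).card) ∧ (181 ≤ n → 18 ≤ (om n).card) ∧ (281 ≤ n → 26 ≤ (om n).card) ∧
    (601 ≤ n → 48 ≤ (om n).card) ∧ (3900 ≤ n → 240 ≤ (om n).card) :=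
  ⟨om_ge_3, om_ge_4, om_ge_5, om_ge_6, om_ge_7, om_ge_9, om_ge_12, om_ge_18, om_ge_26, om_ge_48, om_ge_240⟩

end Cfsg.Agent.H152.Rec
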